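import Mathlib

/-!
# Completions of groups with a basis of open subgroups
-/

set_option autoImplicit false

open Filter Topology UniformSpace

namespace Groth.Agent.LinTopLib

universe v w

variable {M : Type v} [AddCommGroup M] [UniformSpace M] [IsUniformAddGroup M]

/-- The closure of the image of a subgroup in the completion. -/
noncomputable def clSub (U : AddSubgroup M) : AddSubgroup (Completion M) :=
  (U.map Completion.toCompl).topologicalClosure

theorem coe_mem_clSub {U : AddSubgroup M} {u : M} (h : u ∈ U) : (u : Completion M) ∈ clSub U :=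
  AddSubgroup.le_topologicalClosure _ ⟨u, h, rfl⟩

theorem coe_clSub (U : AddSubgroup M) :
    (clSub U : Set (Completion M)) = closure ((↑) '' (U : Set M)) := rfl

theorem clSub_mem_nhds {U : AddSubgroup M} (hU : IsOpen (U : Set M)) :
    (clSub U : Set (Completion M)) ∈ 𝓝 (0 : Completion M) := by
  rw [coe_clSub, ← Completion.coe_zero]
  exact Completion.isDenseInducing_coe.closure_image_mem_nhds (hU.mem_nhds U.zero_mem)

theorem isOpen_clSub {U : AddSubgroup M} (hU : IsOpen (U : Set M)) : IsOpen (clSub U : Set (Completion M)) :=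
  AddSubgroup.isOpen_of_mem_nhds _ (g := 0) (clSub_mem_nhds hU)

theorem exists_clSub_subset (hM : ∀ W ∈ 𝓝 (0 : M), ∃ U : AddSubgroup M, IsOpen (U : Set M) ∧ (U : Set M) ⊆ W)
    {W : Set (Completion M)} (hW : W ∈ 𝓝 (0 : Completion M)) :
    ∃ U : AddSubgroup M, IsOpen (U : Set M) ∧ (clSub U : Set (Completion M)) ⊆ W := by
  have hb := (𝓝 (0 : M)).basis_sets.hasBasis_of_isDenseInducing (Completion.isDenseInducing_coe (α := M))
  rw [Completion.coe_zero] at hb
  obtain ⟨S, hS, hSW⟩ := hb.mem_iff.1 hW
  obtain ⟨U, hU, hUS⟩ := hM S hS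
  exact ⟨U, hU, (closure_mono (Set.image_mono hUS)).trans hSW⟩

theorem coe_mem_clSub_iff {U : AddSubgroup M} (hU : IsOpen (U : Set M)) {m : M} :
    (m : Completion M) ∈ clSub U ↔ m ∈ U := by
  refine ⟨fun h => ?_, coe_mem_clSub⟩
  have h1 : m ∈ closure (U : Set M) := by
    rw [Completion.isDenseInducing_coe.isInducing.closure_eq_preimage_closure_image]
    exact h
  rwa [(U.isClosed_of_isOpen hU).closure_eq] at h1

theorem exists_sub_mem_clSub {U : AddSubgroup M} (hU : IsOpen (U : Set M)) (x : Completion M) :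
    ∃ m : M, x - (m : Completion M) ∈ clSub U := by
  have h : {z : Completion M | x - z ∈ clSub U} ∈ 𝓝 x := by
    refine (continuous_const.sub continuous_id).continuousAt.preimage_mem_nhds ?_
    simpa using clSub_mem_nhds hU
  obtain ⟨_, hz, m, rfl⟩ := mem_closure_iff_nhds.1 (Completion.denseRange_coe x) _ h
  exact ⟨m, hz⟩

theorem cauchySeq_of_sub_mem {G : Type w} [AddCommGroup G] [UniformSpace G] [IsUniformAddGroup G]
    (V : ℕ → AddSubgroup G) (hV : ∀ W ∈ 𝓝 (0 : G), ∃ k, (V k : Set G) ⊆ W) (s : ℕ → G)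
    (hs : ∀ k l, k ≤ l → s l - s k ∈ V k) : CauchySeq s := by
  rw [cauchySeq_iff_tendsto, uniformity_eq_comap_nhds_zero G, tendsto_comap_iff]
  intro W hW
  obtain ⟨k, hk⟩ := hV W hW
  rw [mem_map]
  refine mem_of_superset (prod_atTop_atTop_eq (α := ℕ) (β := ℕ) ▸ prod_mem_prod (Ici_mem_atTop k) (Ici_mem_atTop k)) ?_
  rintro ⟨a, b⟩ ⟨ha, hb⟩
  refine hk ?_
  show s b - s a ∈ V k
  rw [show s b - s a = (s b - s k) - (s a - s k) by abel]
  exact sub_mem (hs k b hb) (hs k a ha)

variable {N : Type w} [AddCommGroup N] [UniformSpace N] [IsUniformAddGroup N] (f : M →+ N) (hf : Continuous f)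

theorem completion_mem_clSub {U : AddSubgroup M} {x : Completion M} (hx : x ∈ clSub U) :
    AddMonoidHom.completion f hf x ∈ clSub (U.map f) := by
  have hc : IsClosed {z : Completion M | AddMonoidHom.completion f hf z ∈ clSub (U.map f)} :=
    isClosed_closure.preimage (AddMonoidHom.continuous_completion f hf)
  refine closure_minimal ?_ hc hx
  rintro _ ⟨u, hu, rfl⟩
  show AddMonoidHom.completion f hf (u : Completion M) ∈ clSub (U.map f)
  rw [AddMonoidHom.completion_coe]
  exact coe_mem_clSub ⟨u, hu, rfl⟩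

/-- For an open map with countable basis of open subgroups the completed map is surjective on the closures
of open subgroups. -/
theorem exists_preimage_clSub (hopen : IsOpenMap f) (U : ℕ → AddSubgroup M) (hU : ∀ k, IsOpen (U k : Set M))
    (hanti : Antitone U) (hbasis : ∀ W ∈ 𝓝 (0 : M), ∃ k, (U k : Set M) ⊆ W)
    {y : Completion N} (hy : y ∈ clSub ((U 0).map f)) :
    ∃ x ∈ clSub (U 0), AddMonoidHom.completion f hf x = y := by
  have hfU : ∀ k, IsOpen (((U k).map f : AddSubgroup N) : Set N) := fun k => hopen _ (hU k)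
  have hstep : ∀ (k : ℕ) (s : M), y - (f s : Completion N) ∈ clSub ((U k).map f) →
      ∃ t ∈ U k, y - (f (s + t) : Completion N) ∈ clSub ((U (k + 1)).map f) := by
    intro k s hs
    have h : {z : Completion N | y - (f s : Completion N) - z ∈ clSub ((U (k + 1)).map f)} ∈
        𝓝 (y - (f s : Completion N)) := by
      refine (continuous_const.sub continuous_id).continuousAt.preimage_mem_nhds ?_
      simpa using clSub_mem_nhds (hfU (k + 1))
    obtain ⟨_, hz, _, ⟨t, ht, rfl⟩, rfl⟩ := mem_closure_iff_nhds.1 hs _ h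
    refine ⟨t, ht, ?_⟩
    rw [map_add, Completion.coe_add, ← sub_sub]
    exact hz
  choose! t ht ht' using hstep
  let s : ℕ → M := fun k => Nat.rec (motive := fun _ => M) 0 (fun i si => si + t i si) k
  have hy0 : ∀ k, y - (f (s k) : Completion N) ∈ clSub ((U k).map f) := by
    intro k
    induction k with
    | zero => show y - (f 0 : Completion N) ∈ _; rw [map_zero, Completion.coe_zero, sub_zero]; exact hy
    | succ k ih => exact ht' k (s k) ih
  have hsU : ∀ k l, k ≤ l → s l - s k ∈ U k := by
    intro k l hkl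
    induction l, hkl using Nat.le_induction with
    | base => simp
    | succ l hkl ih =>
      rw [show s (l + 1) - s k = (s l - s k) + t l (s l) by
        show s l + t l (s l) - s k = _; abel]
      exact add_mem ih (hanti hkl (ht l (s l) (hy0 l)))
  have hclbasis : ∀ W ∈ 𝓝 (0 : Completion M), ∃ k, (clSub (U k) : Set (Completion M)) ⊆ W := fun W hW => by
    have hb := (𝓝 (0 : M)).basis_sets.hasBasis_of_isDenseInducing (Completion.isDenseInducing_coe (α := M))
    rw [Completion.coe_zero] at hb
    obtain ⟨S, hS, hSW⟩ := hb.mem_iff.1 hW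
    obtain ⟨k, hk⟩ := hbasis S hS
    exact ⟨k, (closure_mono (Set.image_mono hk)).trans hSW⟩
  obtain ⟨x, hx⟩ := cauchySeq_tendsto_of_complete (cauchySeq_of_sub_mem (fun k => clSub (U k)) hclbasis
    (fun k => (s k : Completion M)) fun k l hkl => by
      rw [← Completion.coe_sub]; exact coe_mem_clSub (hsU k l hkl))
  refine ⟨x, ?_, ?_⟩
  · refine isClosed_closure.mem_of_tendsto hx (Eventually.of_forall fun k => ?_)
    have := hsU 0 k (Nat.zero_le k)
    simp only [show s 0 = 0 from rfl, sub_zero] at this
    exact coe_mem_clSub this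
  · refine tendsto_nhds_unique (((AddMonoidHom.continuous_completion f hf).tendsto x).comp hx) ?_
    have h0 : Tendsto (fun k => y - AddMonoidHom.completion f hf (s k : Completion M)) atTop (𝓝 0) := by
      intro W hW
      have hb := (𝓝 (0 : N)).basis_sets.hasBasis_of_isDenseInducing (Completion.isDenseInducing_coe (α := N))
      rw [Completion.coe_zero] at hb
      obtain ⟨S, hS, hSW⟩ := hb.mem_iff.1 hW
      obtain ⟨k, hk⟩ := hbasis (f ⁻¹' S) (hf.continuousAt.preimage_mem_nhds (by rwa [map_zero]))
      rw [mem_map]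
      refine mem_of_superset (Ici_mem_atTop k) fun l hl => ?_
      show y - AddMonoidHom.completion f hf (s l : Completion M) ∈ W
      rw [AddMonoidHom.completion_coe]
      refine hSW (closure_mono (Set.image_mono ?_) (hy0 l))
      rintro _ ⟨u, hu, rfl⟩
      exact hk (hanti hl hu)
    have h1 := h0.const_sub y
    simpa [Function.comp_def] using h1

theorem isOpenMap_completion (hopen : IsOpenMap f) [(𝓝 (0 : M)).IsCountablyGenerated]
    (hM : ∀ W ∈ 𝓝 (0 : M), ∃ U : AddSubgroup M, IsOpen (U : Set M) ∧ (U : Set M) ⊆ W) :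
    ∀ U : AddSubgroup M, IsOpen (U : Set M) →
      ∀ y ∈ clSub (U.map f), ∃ x ∈ clSub U, AddMonoidHom.completion f hf x = y := by
  intro U hU y hy
  obtain ⟨b, hb⟩ := (𝓝 (0 : M)).exists_antitone_basis
  choose V hV hVb using fun k => hM (b k) (hb.mem k)
  let W : ℕ → AddSubgroup M := fun k => Nat.rec (motive := fun _ => AddSubgroup M) U (fun i Wi => Wi ⊓ V i) k
  have hWopen : ∀ k, IsOpen (W k : Set M) := fun k => by
    induction k with
    | zero => exact hU
    | succ k ih => exact ih.inter (hV k)
  exact exists_preimage_clSub f hf hopen W hWopen (antitone_nat_of_succ_le fun k => inf_le_left)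
    (fun S hS => by
      obtain ⟨k, hk⟩ := hb.mem_iff.1 hS
      exact ⟨k + 1, fun z hz => hk (hVb k hz.2)⟩) hy

theorem ker_completion_eq_closure (hopen : IsOpenMap f)
    (hM : ∀ W ∈ 𝓝 (0 : M), ∃ U : AddSubgroup M, IsOpen (U : Set M) ∧ (U : Set M) ⊆ W) :
    AddMonoidHom.completion f hf ⁻¹' {0} = closure ((↑) '' (f.ker : Set M)) := by
  refine subset_antisymm (fun x hx => ?_) ?_
  · rw [mem_closure_iff_nhds]
    intro W hW
    have hW0 : {z : Completion M | x - z ∈ W} ∈ 𝓝 (0 : Completion M) :=
      (continuous_const.sub continuous_id).continuousAt.preimage_mem_nhds (by simpa using hW)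
    obtain ⟨U, hU, hUW⟩ := exists_clSub_subset hM hW0
    obtain ⟨m, hm⟩ := exists_sub_mem_clSub hU x
    have h1 := completion_mem_clSub f hf hm
    rw [map_sub, Set.mem_preimage.1 hx, zero_sub, AddMonoidHom.completion_coe, neg_mem_iff,
      coe_mem_clSub_iff (hopen _ hU)] at h1
    obtain ⟨u, hu, hum⟩ := h1
    refine ⟨((m - u : M) : Completion M), ?_, m - u, ?_, rfl⟩
    · have h2 : x - ((m - u : M) : Completion M) ∈ clSub U := by
        rw [Completion.coe_sub, sub_sub_eq_add_sub, add_sub_right_comm]
        exact add_mem hm (coe_mem_clSub hu)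
      have := hUW h2
      simpa using this
    · show f (m - u) = 0
      rw [map_sub, hum, sub_self]
  · refine closure_minimal ?_ (isClosed_singleton.preimage (AddMonoidHom.continuous_completion f hf))
    rintro _ ⟨n, hn, rfl⟩
    show AddMonoidHom.completion f hf (n : Completion M) = 0
    rw [AddMonoidHom.completion_coe, show f n = 0 from hn, Completion.coe_zero]

end Groth.Agent.LinTopLib
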